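import Groth.Agent.H28RR.AnyField
import Groth.Agent.H8Props.AmpleSpread.FieldDescent
import Groth.Agent.H10Coh.TensorBasics
import Groth.Agent.H11Ample.RelQuasiAffine
import Groth.Agent.H11Sym.InvertibleInverse
import Groth.Agent.H06Desc.Geom
import Groth.Agent.H22Alg.ExtPowSheaf
import Groth.Agent.H29Omega.SheafFinite
import Groth.Agent.S11777
import Groth.Prelude.Def_Canon

/-!
# Anticanonical ampleness descends along extensions of algebraically closed fields
-/

set_option autoImplicit false
set_option linter.style.haveILetI false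
set_option linter.unusedSectionVars false
set_option backward.isDefEq.respectTransparency false
universe u

open CategoryTheory CategoryTheory.Limits AlgebraicGeometry TopologicalSpace MonoidalCategory

noncomputable section

namespace Groth.Agent.H06DP

variable {X : Scheme.{u}}

/-- tensor products of isomorphisms -/
def tensorModIso {A A' B B' : X.Modules} (e : A ≅ A') (e' : B ≅ B') :
    CohB1.tensorMod A B ≅ CohB1.tensorMod A' B' :=
  (CohB1.sheafifyMod X).mapIso
    (show (CohB1.tensorPre A B : X.PresheafOfModules) ≅ (CohB1.tensorPre A' B' : X.PresheafOfModules) from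
      MonoidalCategory.tensorIso ((SheafOfModules.forget _).mapIso e) ((SheafOfModules.forget _).mapIso e'))

open H10Coh.Tw in
/-- Inverses of a module are unique. -/
theorem nonempty_iso_of_inverse {D D' W : X.Modules}
    (e : CohB1.tensorMod D W ≅ Coh.structureModule X) (e' : CohB1.tensorMod D' W ≅ Coh.structureModule X) :
    Nonempty (D ≅ D') :=
  ⟨(rightUnitIso D).symm ≪≫ tensorModIso (Iso.refl D) (e'.symm ≪≫ commIso D' W) ≪≫
    (assoc D W D').symm ≪≫ tensorModIso e (Iso.refl D') ≪≫ leftUnitIso D'⟩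

variable {k K : Type u} [Field k] [IsAlgClosed k] [Field K] [Algebra k K]

/-- The condition on a fibre. -/
def IsDelPezzo {L : Type u} [Field L] {Y : Scheme.{u}} (f : Y ⟶ Spec (CommRingCat.of L)) : Prop :=
  IsIntegral Y ∧ topologicalKrullDim ↥Y = 2 ∧
    ∃ ω D : Y.Modules, Canon.IsTopDiff f 2 ω ∧ ClSub.IsInverseOf D ω ∧ CohB1.IsAmple D

theorem isDelPezzo_of_baseChange (f : X ⟶ Spec (CommRingCat.of k)) [IsProper f] [Smooth f]
    {XK : Scheme.{u}} (q : XK ⟶ X) (fK : XK ⟶ Spec (CommRingCat.of K))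
    (hc : IsPullback q fK f (Spec.map (CommRingCat.ofHom (algebraMap k K)))) (h : IsDelPezzo fK) :
    IsDelPezzo f := by
  obtain ⟨hint, hdim, ω', D', hω', hD', hA⟩ := h
  haveI := hint
  haveI : Surjective (Spec.map (CommRingCat.ofHom (algebraMap k K))) :=
    ⟨Function.surjective_to_subsingleton (α := PrimeSpectrum K) (β := PrimeSpectrum k) _⟩
  haveI : Flat (Spec.map (CommRingCat.ofHom (algebraMap k K))) :=
    (HasRingHomProperty.Spec_iff (P := @Flat)).2 (RingHom.flat_algebraMap_iff.2 inferInstance)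
  haveI : Surjective q := MorphismProperty.of_isPullback hc.flip ‹_›
  haveI : Flat q := MorphismProperty.of_isPullback hc.flip ‹_›
  haveI : IsProper fK := MorphismProperty.of_isPullback hc ‹_›
  haveI : IrreducibleSpace X := H06Desc.irreducibleSpace_of_surjective q
  haveI : IsReduced X := H06Desc.isReduced_of_flat_surjective q
  haveI hintX : IsIntegral X := isIntegral_of_irreducibleSpace_of_isReduced X
  have hdimX : topologicalKrullDim X = 2 := (H8Props.FieldDim.dim_baseChange f q fK hc).symm.trans hdim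
  letI : X.Over (Spec (CommRingCat.of k)) := ⟨f⟩
  haveI : IsProper (X ↘ Spec (CommRingCat.of k)) := ‹IsProper f›
  haveI : Smooth (X ↘ Spec (CommRingCat.of k)) := ‹Smooth f›
  have hcomp : ∀ Z ∈ irreducibleComponents (X : Type u), topologicalKrullDim Z = 2 := by
    intro Z hZ
    rw [irreducibleComponents_eq_singleton, Set.mem_singleton_iff] at hZ
    subst hZ
    rw [← hdimX]
    exact IsHomeomorph.topologicalKrullDim_eq _ (Homeomorph.Set.univ (X : Type u)).isHomeomorph
  have hq : Coh.IsQCoh (Omega.sheaf f) := H29Omega.isQCoh_sheaf f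
  obtain ⟨ω, hω⟩ := H22Alg.ExtPowSheaf.exists_isExtPow 2 hq
  have hωi : PicF.IsInvertible ω := H28RR.AnyField.isInvertible_canonical k hcomp hω
  obtain ⟨D, hDi, ⟨eD⟩⟩ := H11Sym.exists_inverse hωi
  obtain ⟨eΩ⟩ := Groth.Agent.S11777.nonempty_iso_omega_baseChange f _ q fK hc
  have hqω := H22Alg.ExtPowSES.isExtPow_of_iso eΩ (H22Alg.ExtPowHom.isExtPow_pullback q hq hω)
  obtain ⟨eω⟩ := H22Alg.ExtPowHom.nonempty_iso hqω hω'
  obtain ⟨et⟩ := H11Ample.exists_iso_pullback_tensor q hDi hωi
  obtain ⟨eO⟩ := H11Ample.nonempty_pullback_structureModule_iso q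
  obtain ⟨eD'⟩ := hD'
  obtain ⟨eDD⟩ := nonempty_iso_of_inverse eD'
    (tensorModIso (Iso.refl ((Scheme.Modules.pullback q).obj D)) eω.symm ≪≫ et.symm ≪≫
      (Scheme.Modules.pullback q).mapIso eD ≪≫ eO)
  exact ⟨hintX, hdimX, ω, D, hω, ⟨eD⟩,
    H8Props.AmpleSpread.isAmple_of_fieldExt f hDi hc (H11Ample.isAmple_of_iso eDD hA)⟩

end Groth.Agent.H06DP
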