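import Groth.Agent.H06DP.Fibre
import Groth.Agent.H18Descent.Basic
import Mathlib.AlgebraicGeometry.Morphisms.LocalFlatDescent
import Mathlib.FieldTheory.IsAlgClosed.AlgebraicClosure

/-!
# Families of del Pezzo surfaces descend along fpqc morphisms
-/

set_option autoImplicit false
set_option linter.style.haveILetI false
set_option linter.unusedSectionVars false
set_option backward.isDefEq.respectTransparency false
universe u

open CategoryTheory CategoryTheory.Limits AlgebraicGeometry TopologicalSpace

noncomputable section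

namespace Groth.Agent.H06DP

theorem descends :
    MorphismProperty.DescendsAlong
      (fun ⦃S T : Scheme.{u}⦄ (p : S ⟶ T) =>
        IsProper p ∧ Smooth p ∧
          ∀ (k : Type u) [Field k] [IsAlgClosed k] (σ : Spec (CommRingCat.of k) ⟶ T),
            IsIntegral (pullback p σ) ∧ topologicalKrullDim ↥(pullback p σ) = 2 ∧
              ∃ ω D : (pullback p σ).Modules, Canon.IsTopDiff (pullback.snd p σ) 2 ω ∧
                ClSub.IsInverseOf D ω ∧ CohB1.IsAmple D)
      (@Surjective ⊓ @Flat ⊓ @QuasiCompact : MorphismProperty Scheme.{u}) := by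
  refine ⟨fun {A X Y Z fst snd f g} h hf hP => ?_⟩
  obtain ⟨hproper, hsmooth, hfib⟩ := hP
  have hp : IsProper g := MorphismProperty.of_isPullback_of_descendsAlong
    (P := @IsProper) (Q := H18Descent.fpqc.{u}) h hf hproper
  have hs : Smooth g := MorphismProperty.of_isPullback_of_descendsAlong
    (P := @Smooth) (Q := (@Surjective ⊓ @Flat ⊓ @QuasiCompact : MorphismProperty Scheme.{u})) h hf hsmooth
  refine ⟨hp, hs, fun k _ _ σ => ?_⟩
  haveI : Surjective f := hf.1.1
  obtain ⟨x, hx⟩ := f.surjective (σ.base (IsLocalRing.closedPoint k))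
  obtain ⟨z, -, -⟩ := Scheme.Pullback.exists_preimage_pullback (f := σ) (g := f) _ x hx.symm
  let L := (pullback σ f).residueField z
  let K := AlgebraicClosure L
  let c : Spec (CommRingCat.of K) ⟶ pullback σ f :=
    Spec.map (CommRingCat.ofHom (algebraMap L K)) ≫ (pullback σ f).fromSpecResidueField z
  obtain ⟨φ, hφ⟩ : ∃ φ : CommRingCat.of k ⟶ CommRingCat.of K, Spec.map φ = c ≫ pullback.fst σ f :=
    Spec.map_surjective _
  letI : Algebra k K := φ.hom.toAlgebra
  let b : Spec (CommRingCat.of K) ⟶ X := c ≫ pullback.snd σ f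
  let j : Spec (CommRingCat.of K) ⟶ Spec (CommRingCat.of k) := Spec.map (CommRingCat.ofHom (algebraMap k K))
  have hj : j = c ≫ pullback.fst σ f := hφ
  have hb : b ≫ f = j ≫ σ := by
    rw [hj]
    show (c ≫ pullback.snd σ f) ≫ f = (c ≫ pullback.fst σ f) ≫ σ
    rw [Category.assoc, Category.assoc]
    exact congrArg (c ≫ ·) pullback.condition.symm
  have hbig : IsPullback (pullback.fst fst b ≫ snd) (pullback.snd fst b) g (j ≫ σ) :=
    hb ▸ (IsPullback.of_hasPullback fst b).paste_horiz h.flip
  let q : pullback fst b ⟶ pullback g σ :=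
    pullback.lift (pullback.fst fst b ≫ snd) (pullback.snd fst b ≫ j) (by rw [hbig.w, Category.assoc])
  have hbig' : IsPullback (q ≫ pullback.fst g σ) (pullback.snd fst b) g (j ≫ σ) := by
    rw [pullback.lift_fst]
    exact hbig
  have hc := IsPullback.of_right hbig' (pullback.lift_snd _ _ _) (IsPullback.of_hasPullback g σ)
  haveI : IsProper (pullback.snd g σ) := MorphismProperty.pullback_snd g σ hp
  haveI : Smooth (pullback.snd g σ) := MorphismProperty.pullback_snd g σ hs
  exact isDelPezzo_of_baseChange (pullback.snd g σ) q (pullback.snd fst b) hc (hfib K b)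

end Groth.Agent.H06DP
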